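import Mathlib

/-!
Data for `²G₂(3)` on an orbit of 56 vectors of its seven-dimensional module.
-/

set_option autoImplicit false

namespace CfsgLib.ReeThree

/-- The vectors, in base three. -/
def vecCode : List ℕ := [729, 755, 745, 951, 959, 967, 843, 842, 841, 1047, 1013, 979, 1177, 1155, 1193, 1067, 1123, 1092, 1281, 1223, 1264, 1430, 1435, 1389, 1318, 1344, 1376, 1806, 2131, 1591, 1752, 2184, 2023, 1772, 1932, 1880, 2040, 1986, 1583, 2059, 1817, 1681, 1682, 6, 1849, 1903, 1471, 1481, 2102, 2156, 1569, 1705, 3, 1949, 1677, 1458]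

/-- The two chosen generators, as words in the root elements. -/
def genWord : List (List (ℕ × ZMod 3)) := [[(7, 0), (6, 0), (8, 1), (9, 0), (10, 1), (11, 0)], [(4, 2), (5, 2), (3, 2), (2, 1), (1, 0), (0, 2)]]

/-- Their permutations. -/
def genList : List (List (Fin 56)) := [[3, 4, 5, 6, 7, 8, 0, 1, 2, 12, 13, 14, 15, 16, 17, 9, 10, 11, 21, 22, 23, 24, 25, 26, 18, 19, 20, 45, 37, 41, 44, 53, 36, 27, 51, 30, 49, 48, 42, 31, 34, 46, 47, 43, 35, 33, 29, 38, 28, 32, 54, 40, 52, 39, 55, 50], [0, 33, 6, 31, 24, 8, 21, 10, 45, 50, 9, 1, 41, 22, 18, 49, 19, 5, 47, 27, 52, 36, 4, 25, 14, 53, 12, 34, 16, 35, 2, 38, 37, 43, 11, 39, 40, 3, 42, 30, 29, 32, 26, 28, 13, 48, 20, 54, 7, 51, 17, 23, 15, 46, 44, 55]]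

/-- The inverse permutations. -/
def genInvList : List (List (Fin 56)) := [[6, 7, 8, 0, 1, 2, 3, 4, 5, 15, 16, 17, 9, 10, 11, 12, 13, 14, 24, 25, 26, 18, 19, 20, 21, 22, 23, 33, 48, 46, 35, 39, 49, 45, 40, 44, 32, 28, 47, 53, 51, 29, 38, 43, 30, 27, 41, 42, 37, 36, 55, 34, 52, 31, 50, 54], [0, 11, 30, 37, 22, 17, 2, 48, 5, 10, 7, 34, 26, 44, 24, 52, 28, 50, 14, 16, 46, 6, 13, 51, 4, 23, 42, 19, 43, 40, 39, 3, 41, 1, 27, 29, 21, 32, 31, 35, 36, 12, 38, 33, 54, 8, 53, 18, 45, 15, 9, 49, 20, 25, 47, 55]]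

/-- The defining generators as products of the chosen ones, positive and negative. -/
def decU : List (List (Fin 2)) := [[], [0, 1, 0, 0, 1, 0, 1, 0, 1, 1, 1, 1, 1], [1, 1, 1, 0, 1, 0, 0, 1, 1], [0], [1, 0, 1, 0, 1, 0, 1, 0, 0, 1, 1, 1], [0, 1, 1, 1, 0, 1, 0, 0, 1, 1], [0, 0], [1, 0, 0, 1, 0, 1, 0, 1, 1, 1, 1, 1], [0, 0, 1, 1, 1, 0, 1, 0, 0, 1, 1], [0, 1, 1, 0, 1, 1, 1, 0, 1, 1, 1, 0], [0, 0, 1, 1, 1, 1, 0, 1, 1, 0, 1, 1], [0, 0, 1, 1, 0, 1, 1, 1, 0, 1, 1, 1], [1, 1, 1, 1, 0, 1, 1, 0, 1, 1], [1, 1, 0, 1, 1, 1, 0, 1, 1, 1], [0, 0, 1, 1, 0, 1, 1, 1, 0, 1, 1, 1, 0], [0, 1, 1, 0, 1, 1, 1, 0, 1, 1, 1], [1, 1, 0, 1, 1, 1, 0, 1, 1, 1, 0], [0, 1, 1, 1, 1, 0, 1, 1, 0, 1, 1], [1, 0, 0, 1, 0, 1, 1], [0, 1, 1, 1, 1, 0, 0, 1, 0], [0, 0, 1, 1, 1, 1, 0, 0, 1], [1, 1, 1, 1, 0, 0, 1], [0, 1, 0, 0, 1, 0, 1, 1], [0, 0, 1, 1, 1, 1, 0, 0, 1, 0], [1, 1, 1, 1, 0, 0, 1, 0], [0, 1,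 1, 1, 1, 0, 0, 1], [0, 0, 1, 0, 0, 1, 0, 1, 1]]

/-- The negative ones. -/
def decV : List (List (Fin 2)) := [[], [1, 1, 1, 1, 1, 1], [1, 1, 1], [0, 1, 0, 1, 0, 0, 1, 1, 1, 0, 0], [0, 1, 0, 0, 1, 1, 0, 1, 0, 1, 0], [0, 0, 1, 0, 1, 0, 1, 1, 0, 1, 0], [1, 0, 1, 0, 0, 1, 1, 1, 0], [0, 1, 0, 0, 1, 1, 1, 0, 1], [0, 0, 1, 0, 1, 0, 1, 0, 0, 1, 0, 1], [1, 1, 1, 1], [1], [1, 1, 1, 1, 1, 1, 1], [0, 1, 0, 1, 0, 1, 0, 1, 1, 0], [0, 1, 0, 1, 0, 1, 1, 1, 1, 1, 0], [0, 0, 1, 0, 1, 0, 1, 1, 0, 1, 0, 1], [0, 1, 0, 0, 1, 1, 1, 0, 1, 1], [1, 1, 0, 1, 0, 0, 1, 1, 1, 0], [1, 0, 1, 0, 0, 1, 1, 1, 0, 1], [0, 1, 0, 1, 0, 1, 0, 1, 1, 0, 1], [1, 0, 1, 0, 1, 0, 1, 0, 1, 1, 0], [1, 0, 1, 0, 1, 0, 1, 1, 1, 1, 1, 0], [0, 1, 0, 0, 1, 1, 1, 0], [0, 0, 1, 0, 1, 0, 1, 0, 0, 1, 0], [0, 1, 0, 0, 1, 1, 1, 0, 1, 1, 1], [1, 1, 1, 1, 1, 1, 1, 1], [1, 1, 1, 1, 1], [1, 1]]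

/-- Two generators of the derived subgroup. -/
def derList : List (List (Fin 56)) := [[0, 2, 41, 27, 48, 52, 26, 15, 46, 53, 20, 21, 19, 50, 17, 13, 6, 49, 9, 30, 14, 38, 10, 24, 8, 22, 34, 35, 36, 12, 37, 16, 33, 39, 40, 42, 3, 11, 43, 31, 32, 28, 1, 29, 5, 25, 47, 7, 51, 54, 23, 18, 4, 44, 45, 55], [27, 14, 35, 40, 53, 6, 10, 55, 49, 43, 15, 26, 37, 33, 4, 50, 1, 38, 34, 47, 19, 48, 31, 21, 30, 36, 8, 44, 3, 11, 25, 5, 28, 51, 13, 18, 20, 52, 54, 29, 17, 0, 16, 7, 12, 42, 39, 24, 9, 46, 22, 2, 41, 45, 32, 23]]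

/-- Their inverses. -/
def derInvList : List (List (Fin 56)) := [[0, 42, 1, 36, 52, 44, 16, 47, 24, 18, 22, 37, 29, 15, 20, 7, 31, 14, 51, 12, 10, 11, 25, 50, 23, 45, 6, 3, 41, 43, 19, 39, 40, 32, 26, 27, 28, 30, 21, 33, 34, 2, 35, 38, 53, 54, 8, 46, 4, 17, 13, 48, 5, 9, 49, 55], [41, 16, 51, 28, 14, 31, 5, 43, 26, 48, 6, 29, 44, 34, 1, 10, 42, 40, 35, 20, 36, 23, 50, 55, 47, 30, 11, 0, 32, 39, 24, 22, 54, 13, 18, 2, 25, 12, 17, 46, 3, 52, 45, 9, 27, 53, 49, 19, 21, 8, 15, 33, 37, 4, 38, 7]]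

/-- They are words in the generators. -/
def derWord : List (List (Fin 2)) := [[1, 0, 1, 0, 1, 1, 0, 1, 0, 1, 0, 0], [0, 0, 1, 1, 1, 0, 1, 0, 1, 0, 0, 1]]

/-- They are commutators of words in themselves. -/
def derComm : List (List (Fin 2) × List (Fin 2)) := [([1, 0], [0, 1, 1, 1, 1]), ([0, 0, 0], [0, 0, 0, 0, 1, 1])]

/-- The commutators of the generators as words in the derived ones. -/
def commGen : List (List (List (Fin 2))) := [[[], [1, 1, 1, 0, 1, 1, 0, 1, 1]], [[1, 0, 0, 1, 0, 0, 1, 0, 0], []]]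

/-- The conjugates of the derived generators. -/
def conjGen : List (List (List (Fin 2))) := [[[0, 1, 0, 1, 0, 0, 1, 0, 0], [1, 0, 0, 0, 1, 0, 0, 1]], [[0, 0, 0, 0], [1, 1, 0, 1, 0, 0, 0]]]

/-- An element of order seven. -/
def wordSeven : List (Fin 2) := [1]

/-- An element of order nine. -/
def wordNine : List (Fin 2) := [0]

/-- A group of order eight. -/
def wordEight : List (List (Fin 2)) := [[], [1, 1, 0, 1, 0, 1, 1], [1, 0, 0, 1], [1, 0, 1, 0, 1, 1, 1, 0, 0], [0, 1, 1, 0], [1, 0, 1, 0, 0, 1, 0, 1], [1, 1, 1, 0, 1, 0, 0, 0], [1, 0, 1, 1, 1, 0, 0, 1, 0]]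

/-- Its table. -/
def tableEight : List (List (Fin 8)) := [[0, 1, 2, 3, 4, 5, 6, 7], [1, 0, 3, 2, 5, 4, 7, 6], [2, 3, 0, 1, 6, 7, 4, 5], [3, 2, 1, 0, 7, 6, 5, 4], [4, 5, 6, 7, 0, 1, 2, 3], [5, 4, 7, 6, 1, 0, 3, 2], [6, 7, 4, 5, 2, 3, 0, 1], [7, 6, 5, 4, 3, 2, 1, 0]]

/-- A set of pairs of points invariant under the derived subgroup. -/
def pairRows : List ℕ := [6700551634958, 18599905631141909, 18334358540648483, 11259087250523137, 53472611534850, 845564170732036, 219936987677184, 36741297801298944, 36143148393629696, 290374753976416, 9706643128456, 1451905138557200, 9165958426025984, 37191122543497216, 9077607324790784, 54044313831612544, 2359826965610752, 1288670577954880, 26663559693392, 1716337651091616, 9898423255816, 2603647338807296, 2392889835388928, 37718206321786880, 54044159756993792, 1479947216488512, 9715354003571328, 18726058803209, 2276370677841,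 9077569142964736, 23080952932630560, 20547673319801100, 5631734024527904, 5634035300827152, 27039189950305418, 4402475844193, 282025072264713, 22553465993572368, 2392674762298368, 844493674777618, 52776693964836, 6790588410167301, 14073791852445699, 1839040, 1116826636306, 3435973912852, 36169535079924032, 36099440712487104, 620658428452, 4948952088738, 36028809946474496, 13513274937114632, 29280146045272064, 6759815271436296, 4503757484228614, 1337006164582784]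

/-- A pair that leaves it. -/
def badPair : Fin 56 × Fin 56 := (49, 23)

/-- The generator moving it. -/
def outGen : Fin 2 := 0

end CfsgLib.ReeThree
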