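import Cfsg.Prelude.Def_LieTwisted
import Cfsg.Agent.Lib.Chev.GTwoThree.Rep
import Cfsg.Agent.Lib.ReeThree.Data

/-!
Checks of the tables for `²G₂(3)`.
-/

set_option autoImplicit false
set_option maxRecDepth 100000

namespace CfsgLib.ReeThree

open Cfsg.Lie CfsgLib.GTwoThree

instance : Fact (Nat.Prime 3) := ⟨Nat.prime_three⟩

/-- A vector from its code. -/
def decode (c : ℕ) (i : Fin 7) : ZMod 3 := ((c / 3 ^ (i : ℕ)) % 3 : ℕ)

/-- The code of a vector. -/
def encode (v : Fin 7 → ZMod 3) : ℕ :=
  (List.finRange 7).foldr (fun i c => (v i).val + 3 * c) 0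

/-- The matrix of a letter. -/
def gm (p : ℕ × ZMod 3) : MatSeven :=
  if h : p.1 < 12 then genSeven ⟨p.1, h⟩ p.2 else 1

/-- A letter on a code. -/
def stepC (c : ℕ) (p : ℕ × ZMod 3) : ℕ := encode (Matrix.vecMul (decode c) (gm p))

/-- A word on a code. -/
def evC (w : List (ℕ × ZMod 3)) (c : ℕ) : ℕ := w.foldl stepC c

/-- The codes of the unit vectors. -/
def unitC (i : Fin 7) : ℕ := 3 ^ (i : ℕ)

/-- A point as a code. -/
def vecC (i : Fin 56) : ℕ := vecCode.getD i 0

/-- A generator on the points. -/
def gpF (g : Fin 2) (i : Fin 56) : Fin 56 := (genList.getD g []).getD i 0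

/-- Its inverse. -/
def gpI (g : Fin 2) (i : Fin 56) : Fin 56 := (genInvList.getD g []).getD i 0

/-- A derived generator on the points. -/
def dpF (g : Fin 2) (i : Fin 56) : Fin 56 := (derList.getD g []).getD i 0

/-- Its inverse. -/
def dpI (g : Fin 2) (i : Fin 56) : Fin 56 := (derInvList.getD g []).getD i 0

/-- A word in the generators on a point. -/
def evG (w : List (Fin 2)) (i : Fin 56) : Fin 56 := w.foldr gpF i

/-- A word in the derived generators on a point. -/
def evD (w : List (Fin 2)) (i : Fin 56) : Fin 56 := w.foldr dpF i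

/-- The inverse of a word in the derived generators on a point. -/
def evDI (w : List (Fin 2)) (i : Fin 56) : Fin 56 := w.foldl (fun x g => dpI g x) i

/-- The root letters of a word in the two generators. -/
def letters (d : List (Fin 2)) : List (ℕ × ZMod 3) := d.flatMap fun g => genWord.getD g []

/-- A word agrees with a product of the generators. -/
def chkW (w : List (ℕ × ZMod 3)) (d : List (Fin 2)) : Bool :=
  (w.all fun p => decide (p.1 < 12)) &&
    (List.finRange 7).all fun i => evC w (unitC i) == evC (letters d) (unitC i)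

/-- The place of a triple in the list of defining generators. -/
def place (t u v : ZMod 3) : ℕ := 9 * t.val + 3 * u.val + v.val

theorem decode_encode_chk : ∀ v : Fin 7 → ZMod 3, ∀ i, decode (encode v) i = v i := by decide +kernel

theorem decode_unit : ∀ i j : Fin 7, decode (unitC i) j = if i = j then 1 else 0 := by decide +kernel

theorem chkU : ∀ t u v : ZMod 3, chkW (reeWordU 1 t u v) (decU.getD (place t u v) []) = true := by
  decide +kernel

theorem chkV : ∀ t u v : ZMod 3, chkW (reeWordV 1 t u v) (decV.getD (place t u v) []) = true := by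
  decide +kernel

theorem genWord_roots : ∀ (g : Fin 2), ∀ p ∈ genWord.getD g [], p.1 < 12 := by decide +kernel

theorem gen_act : ∀ (g : Fin 2) (i : Fin 56),
    evC (genWord.getD g []) (vecC i) = vecC (gpF g i) := by decide +kernel

theorem vecC_spec : vecCode.Nodup ∧ vecCode.length = 56 ∧ ∀ c ∈ vecCode, c < 3 ^ 7 := by
  decide +kernel

theorem gp_inv : ∀ g i, gpI g (gpF g i) = i := by decide +kernel

theorem dp_inv : ∀ g i, dpI g (dpF g i) = i := by decide +kernel

theorem derWord_chk : ∀ (g : Fin 2) (i : Fin 56), dpF g i = evG (derWord.getD g []) i := by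
  decide +kernel

theorem derComm_chk : ∀ (g : Fin 2) (i : Fin 56),
    dpF g i = evD (derComm.getD g ([], [])).1 (evD (derComm.getD g ([], [])).2
      (evDI (derComm.getD g ([], [])).1 (evDI (derComm.getD g ([], [])).2 i))) := by
  decide +kernel

theorem commGen_chk : ∀ (g h : Fin 2) (i : Fin 56),
    gpF g (gpF h (gpI g (gpI h i))) = evD ((commGen.getD g []).getD h []) i := by decide +kernel

theorem conjGen_chk : ∀ (g h : Fin 2) (i : Fin 56),
    gpF g (dpF h (gpI g i)) = evD ((conjGen.getD g []).getD h []) i := by decide +kernel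

theorem seven_chk : (∀ i, (evD wordSeven)^[7] i = i) ∧ ∃ i, evD wordSeven i ≠ i := by
  decide +kernel

theorem nine_chk : (∀ i, (evD wordNine)^[9] i = i) ∧ ∃ i, (evD wordNine)^[3] i ≠ i := by
  decide +kernel

/-- An element of the group of order eight on a point. -/
def evE (k : Fin 8) (i : Fin 56) : Fin 56 := evD (wordEight.getD k []) i

theorem eight_chk : (∀ k l : Fin 8, ∀ i, evE k (evE l i) = evE ((tableEight.getD k []).getD l 0) i) ∧
    (∀ k l : Fin 8, (∀ i, evE k i = evE l i) → k = l) ∧ (∀ i, evE 0 i = i) ∧
      ∀ k : Fin 8, ∀ i, evE k (evE k i) = i := by decide +kernel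

/-- The invariant set of pairs. -/
def inPairs (x y : Fin 56) : Bool := (pairRows.getD x 0).testBit y

theorem pairs_chk : ∀ (g : Fin 2) (x y : Fin 56), inPairs x y → inPairs (dpF g x) (dpF g y) := by
  decide +kernel

theorem bad_chk : inPairs badPair.1 badPair.2 = true ∧
    inPairs (gpF outGen badPair.1) (gpF outGen badPair.2) = false := by decide +kernel

end CfsgLib.ReeThree
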