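import Cfsg.Agent.Lib.ReeThree.Checks
import Cfsg.Agent.S1069
import Cfsg.Agent.S0496
import Cfsg.Agent.S0088

/-!
The derived subgroup of `²G₂(3)` is simple of order 504.
-/

set_option autoImplicit false
set_option maxRecDepth 100000
set_option linter.style.haveILetI false

open scoped commutatorElement Matrix

namespace CfsgLib.ReeThree

open Cfsg.Lie CfsgLib.GTwoThree

/-! ### The matrices of words -/

/-- The matrix of a word. -/
def matC (w : List (ℕ × ZMod 3)) : MatSeven := (w.map gm).prod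

theorem decode_encode (v : Fin 7 → ZMod 3) : decode (encode v) = v := funext (decode_encode_chk v)

theorem decode_evC : ∀ (w : List (ℕ × ZMod 3)) (c : ℕ),
    decode (evC w c) = Matrix.vecMul (decode c) (matC w)
  | [], c => by
    rw [show matC [] = 1 from List.prod_nil, Matrix.vecMul_one, evC, List.foldl_nil]
  | p :: w, c => by
    have := decode_evC w (stepC c p)
    unfold evC at this
    rw [evC, List.foldl_cons, this, stepC, decode_encode, Matrix.vecMul_vecMul]
    unfold matC
    rw [List.map_cons, List.prod_cons]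

theorem matC_eq_of_chkW {w : List (ℕ × ZMod 3)} {d : List (Fin 2)} (h : chkW w d = true) :
    matC w = matC (letters d) := by
  simp only [chkW, Bool.and_eq_true, List.all_eq_true, beq_iff_eq] at h
  refine Matrix.ext fun i j => ?_
  have hu : decode (unitC i) = Pi.single i 1 := funext fun k => by
    rw [decode_unit]; simp [Pi.single_apply, eq_comm]
  have h1 := congrArg decode (h.2 i (List.mem_finRange i))
  rw [decode_evC, decode_evC, hu] at h1
  simpa [Matrix.single_vecMul] using congrFun h1 j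

theorem decode_vecC_injective : Function.Injective fun i => decode (vecC i) := by
  obtain ⟨hd, hl, hlt⟩ := vecC_spec
  intro a b h
  have ha : (a : ℕ) < vecCode.length := by omega
  have hb : (b : ℕ) < vecCode.length := by omega
  have key : ∀ c, c < 3 ^ 7 → ∀ c', c' < 3 ^ 7 → decode c = decode c' → c = c' := by
    intro c hc c' hc' he
    have hk : ∀ k, k < 7 → c / 3 ^ k % 3 = c' / 3 ^ k % 3 := fun k hk => by
      have := congrFun he ⟨k, hk⟩
      simp only [decode, ZMod.natCast_eq_natCast_iff', Nat.mod_mod] at this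
      exact this
    have h0 := hk 0 (by omega); have h1 := hk 1 (by omega); have h2 := hk 2 (by omega)
    have h3 := hk 3 (by omega); have h4 := hk 4 (by omega); have h5 := hk 5 (by omega)
    have h6 := hk 6 (by omega)
    norm_num at h0 h1 h2 h3 h4 h5 h6 hc hc'
    omega
  refine Fin.ext ((List.Nodup.getElem_inj_iff hd (hi := ha) (hj := hb)).mp ?_)
  have e1 : vecC a = vecCode[(a : ℕ)] := List.getD_eq_getElem vecCode 0 ha
  have e2 : vecC b = vecCode[(b : ℕ)] := List.getD_eq_getElem vecCode 0 hb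
  rw [← e1, ← e2]
  exact key _ (e1 ▸ hlt _ (List.getElem_mem ha)) _ (e2 ▸ hlt _ (List.getElem_mem hb)) h

/-! ### The groups of permutations -/

/-- A generator as a permutation. -/
noncomputable def gP (g : Fin 2) : Equiv.Perm (Fin 56) :=
  Equiv.ofBijective (gpF g) (Function.Injective.bijective_of_finite fun a b h => by
    rw [← gp_inv g a, h, gp_inv])

/-- A derived generator as a permutation. -/
noncomputable def dP (g : Fin 2) : Equiv.Perm (Fin 56) :=
  Equiv.ofBijective (dpF g) (Function.Injective.bijective_of_finite fun a b h => by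
    rw [← dp_inv g a, h, dp_inv])

theorem gP_apply (g : Fin 2) (i : Fin 56) : gP g i = gpF g i := rfl

theorem dP_apply (g : Fin 2) (i : Fin 56) : dP g i = dpF g i := rfl

theorem gP_inv_apply (g : Fin 2) (i : Fin 56) : (gP g)⁻¹ i = gpI g i := by
  obtain ⟨j, rfl⟩ := (gP g).surjective i
  rw [show (gP g)⁻¹ (gP g j) = j from (gP g).symm_apply_apply j, gP_apply, gp_inv]

theorem dP_inv_apply (g : Fin 2) (i : Fin 56) : (dP g)⁻¹ i = dpI g i := by
  obtain ⟨j, rfl⟩ := (dP g).surjective i
  rw [show (dP g)⁻¹ (dP g j) = j from (dP g).symm_apply_apply j, dP_apply, dp_inv]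

/-- The group. -/
noncomputable def RG : Subgroup (Equiv.Perm (Fin 56)) := Subgroup.closure (Set.range gP)

/-- The derived group. -/
noncomputable def DG : Subgroup (Equiv.Perm (Fin 56)) := Subgroup.closure (Set.range dP)

/-- A word as a permutation. -/
noncomputable def pG (w : List (Fin 2)) : Equiv.Perm (Fin 56) := (w.map gP).prod

/-- A word in the derived generators as a permutation. -/
noncomputable def pD (w : List (Fin 2)) : Equiv.Perm (Fin 56) := (w.map dP).prod

theorem pG_mem (w : List (Fin 2)) : pG w ∈ RG :=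
  Subgroup.list_prod_mem _ fun x hx => by
    obtain ⟨g, -, rfl⟩ := List.mem_map.mp hx
    exact Subgroup.subset_closure ⟨g, rfl⟩

theorem pD_mem (w : List (Fin 2)) : pD w ∈ DG :=
  Subgroup.list_prod_mem _ fun x hx => by
    obtain ⟨g, -, rfl⟩ := List.mem_map.mp hx
    exact Subgroup.subset_closure ⟨g, rfl⟩

theorem pG_apply : ∀ (w : List (Fin 2)) (i : Fin 56), pG w i = evG w i
  | [], _ => rfl
  | g :: w, i => by
    rw [show pG (g :: w) = gP g * pG w from List.prod_cons, Equiv.Perm.mul_apply, pG_apply w]; rfl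

theorem pD_apply : ∀ (w : List (Fin 2)) (i : Fin 56), pD w i = evD w i
  | [], _ => rfl
  | g :: w, i => by
    rw [show pD (g :: w) = dP g * pD w from List.prod_cons, Equiv.Perm.mul_apply, pD_apply w]; rfl

theorem pD_inv_apply : ∀ (w : List (Fin 2)) (i : Fin 56), (pD w)⁻¹ i = evDI w i
  | [], _ => rfl
  | g :: w, i => by
    rw [show pD (g :: w) = dP g * pD w from List.prod_cons, mul_inv_rev, Equiv.Perm.mul_apply,
      pD_inv_apply w, dP_inv_apply]; rfl

theorem DG_le_RG : DG ≤ RG := (Subgroup.closure_le _).mpr fun x hx => by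
  obtain ⟨g, rfl⟩ := hx
  rw [show dP g = pG (derWord.getD g []) from Equiv.ext fun i => by
    rw [pG_apply, dP_apply, derWord_chk]]
  exact pG_mem _

theorem DG_perfect : DG ≤ ⁅DG, DG⁆ := by
  refine (Subgroup.closure_le _).mpr ?_
  rintro _ ⟨g, rfl⟩
  rw [show dP g = ⁅pD (derComm.getD g ([], [])).1, pD (derComm.getD g ([], [])).2⁆ from
    Equiv.ext fun i => by
      rw [commutatorElement_def, Equiv.Perm.mul_apply, Equiv.Perm.mul_apply, Equiv.Perm.mul_apply,
        pD_apply, pD_apply, pD_inv_apply, pD_inv_apply, dP_apply, derComm_chk]]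
  exact Subgroup.commutator_mem_commutator (pD_mem _) (pD_mem _)

theorem DG_norm : ∀ r ∈ RG, ∀ d ∈ DG, r * d * r⁻¹ ∈ DG := by
  intro r hr
  have hr' : r ∈ Submonoid.closure (Set.range gP) := by
    rw [← Subgroup.closure_toSubmonoid_of_finite]; exact hr
  clear hr
  induction hr' using Submonoid.closure_induction with
  | mem x hx =>
    obtain ⟨g, rfl⟩ := hx
    intro d hd
    induction hd using Subgroup.closure_induction with
    | mem y hy =>
      obtain ⟨h, rfl⟩ := hy
      rw [show gP g * dP h * (gP g)⁻¹ = pD ((conjGen.getD g []).getD h []) from Equiv.ext fun i => by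
        rw [Equiv.Perm.mul_apply, Equiv.Perm.mul_apply, gP_inv_apply, dP_apply, gP_apply,
          pD_apply, conjGen_chk]]
      exact pD_mem _
    | one => simp
    | mul a b _ _ ha hb =>
      have := mul_mem ha hb
      rwa [show gP g * a * (gP g)⁻¹ * (gP g * b * (gP g)⁻¹) = gP g * (a * b) * (gP g)⁻¹ by group]
        at this
    | inv a _ ha =>
      have := inv_mem ha
      rwa [show (gP g * a * (gP g)⁻¹)⁻¹ = gP g * a⁻¹ * (gP g)⁻¹ by group] at this
  | one => simp
  | mul a b _ _ ha hb =>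
    intro d hd
    have := ha _ (hb _ hd)
    rwa [show a * (b * d * b⁻¹) * a⁻¹ = a * b * d * (a * b)⁻¹ by group] at this

theorem commutator_RG_le : ⁅RG, RG⁆ ≤ DG := by
  have step : ∀ x ∈ RG, ∀ y ∈ RG, ∀ z ∈ RG, ⁅x, y⁆ ∈ DG → ⁅x, z⁆ ∈ DG → ⁅x, y * z⁆ ∈ DG := by
    intro x _ y hy z _ h1 h2
    rw [show ⁅x, y * z⁆ = ⁅x, y⁆ * (y * ⁅x, z⁆ * y⁻¹) by
      simp only [commutatorElement_def]; group]
    exact mul_mem h1 (DG_norm y hy _ h2)
  have stepI : ∀ x ∈ RG, ∀ y ∈ RG, ⁅x, y⁆ ∈ DG → ⁅x, y⁻¹⁆ ∈ DG := by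
    intro x _ y hy h1
    rw [show ⁅x, y⁻¹⁆ = y⁻¹ * ⁅x, y⁆⁻¹ * (y⁻¹)⁻¹ by simp only [commutatorElement_def]; group]
    exact DG_norm _ (inv_mem hy) _ (inv_mem h1)
  have base : ∀ g, ∀ y ∈ RG, ⁅gP g, y⁆ ∈ DG := by
    intro g y hy
    have hg : gP g ∈ RG := Subgroup.subset_closure ⟨g, rfl⟩
    induction hy using Subgroup.closure_induction with
    | mem z hz =>
      obtain ⟨h, rfl⟩ := hz
      rw [show ⁅gP g, gP h⁆ = pD ((commGen.getD g []).getD h []) from Equiv.ext fun i => by
        rw [commutatorElement_def, Equiv.Perm.mul_apply, Equiv.Perm.mul_apply, Equiv.Perm.mul_apply,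
          gP_inv_apply, gP_inv_apply, gP_apply, gP_apply, pD_apply, commGen_chk]]
      exact pD_mem _
    | one => simp
    | mul a b ha hb iha ihb => exact step _ hg a ha b hb iha ihb
    | inv a ha iha => exact stepI _ hg a ha iha
  refine Subgroup.commutator_le.mpr fun x hx y hy => ?_
  rw [← inv_inv ⁅x, y⁆, commutatorElement_inv]
  refine inv_mem ?_
  induction hx using Subgroup.closure_induction with
  | mem z hz =>
    obtain ⟨g, rfl⟩ := hz
    rw [← commutatorElement_inv]
    exact inv_mem (base g y hy)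
  | one => simp
  | mul a b ha hb iha ihb => exact step _ hy a ha b hb iha ihb
  | inv a ha iha => exact stepI _ hy a ha iha

theorem commutator_RG : ⁅RG, RG⁆ = DG :=
  le_antisymm commutator_RG_le (DG_perfect.trans (Subgroup.commutator_mono DG_le_RG DG_le_RG))

theorem gP_out_not_mem : gP outGen ∉ DG := by
  intro h
  have key : ∀ σ ∈ DG, ∀ x y, inPairs x y → inPairs (σ x) (σ y) := by
    intro σ hσ
    rw [DG, ← Subgroup.mem_toSubmonoid, Subgroup.closure_toSubmonoid_of_finite] at hσ
    induction hσ using Submonoid.closure_induction with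
    | mem z hz => obtain ⟨g, rfl⟩ := hz; exact fun x y hxy => pairs_chk g x y hxy
    | one => exact fun x y hxy => hxy
    | mul a b _ _ ha hb => exact fun x y hxy => ha _ _ (hb _ _ hxy)
  have h1 := key _ h _ _ bad_chk.1
  rw [gP_apply, gP_apply, bad_chk.2] at h1
  exact Bool.false_ne_true h1

/-! ### The orders -/

theorem orderOf_seven : orderOf (pD wordSeven) = 7 := by
  haveI : Fact (Nat.Prime 7) := ⟨by norm_num⟩
  have e : ⇑(pD wordSeven) = evD wordSeven := funext (pD_apply _)
  refine orderOf_eq_prime (Equiv.ext fun i => ?_) fun h => ?_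
  · rw [Equiv.Perm.coe_pow, e]; exact seven_chk.1 i
  · obtain ⟨i, hi⟩ := seven_chk.2
    rw [← e, h] at hi
    exact hi rfl

theorem orderOf_nine : orderOf (pD wordNine) = 3 ^ 2 := by
  haveI : Fact (Nat.Prime 3) := ⟨by norm_num⟩
  have e : ⇑(pD wordNine) = evD wordNine := funext (pD_apply _)
  refine orderOf_eq_prime_pow (fun h => ?_) (Equiv.ext fun i => ?_)
  · obtain ⟨i, hi⟩ := nine_chk.2
    rw [← e, ← Equiv.Perm.coe_pow] at hi
    exact hi (by rw [show pD wordNine ^ 3 = 1 from by simpa using h]; rfl)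
  · rw [Equiv.Perm.coe_pow, e]; exact nine_chk.1 i

/-- The group of order eight. -/
noncomputable def eightGroup : Subgroup (Equiv.Perm (Fin 56)) where
  carrier := Set.range fun k : Fin 8 => pD (wordEight.getD k [])
  mul_mem' := by
    rintro _ _ ⟨k, rfl⟩ ⟨l, rfl⟩
    exact ⟨(tableEight.getD k []).getD l 0, Equiv.ext fun i => by
      rw [Equiv.Perm.mul_apply, pD_apply, pD_apply, pD_apply]
      exact (eight_chk.1 k l i).symm⟩
  one_mem' := ⟨0, Equiv.ext fun i => by
    rw [pD_apply]; exact eight_chk.2.2.1 i⟩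
  inv_mem' := by
    rintro _ ⟨k, rfl⟩
    exact ⟨k, eq_inv_of_mul_eq_one_left (Equiv.ext fun i => by
      rw [Equiv.Perm.mul_apply, pD_apply, pD_apply]
      exact eight_chk.2.2.2 k i)⟩

theorem dvd_card_DG : 504 ∣ Nat.card DG := by
  have h7 : 7 ∣ Nat.card DG := by
    rw [← orderOf_seven, ← Subgroup.orderOf_mk _ (pD_mem wordSeven)]; exact orderOf_dvd_natCard _
  have h9 : 9 ∣ Nat.card DG := by
    have := orderOf_dvd_natCard (⟨_, pD_mem wordNine⟩ : DG)
    rwa [Subgroup.orderOf_mk, orderOf_nine] at this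
  have h8 : 8 ∣ Nat.card DG := by
    have hle : eightGroup ≤ DG := by rintro _ ⟨k, rfl⟩; exact pD_mem _
    have hc : Nat.card eightGroup = 8 := by
      rw [show Nat.card eightGroup = Nat.card (Set.range fun k : Fin 8 => pD (wordEight.getD k []))
        from rfl, Nat.card_range_of_injective (fun k l h => eight_chk.2.1 k l fun i => by
          show evD _ i = evD _ i
          rw [← pD_apply, ← pD_apply]; exact Equiv.ext_iff.mp h i), Nat.card_fin]
    exact hc ▸ Subgroup.card_dvd_of_le hle
  omega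

/-! ### The representation -/

theorem x_spec {p : ℕ × ZMod 3} (h : p.1 < 12) :
    Block (chevG2.x (ZMod 3) p.1 p.2) ∧ (chevG2.x (ZMod 3) p.1 p.2).submatrix sel sel = gm p := by
  have hx : chevG2.x (ZMod 3) p.1 p.2 = chevG2.xMat (ZMod 3) ⟨p.1, h⟩ p.2 := dif_pos h
  obtain ⟨hb, hs⟩ := root_spec ⟨p.1, h⟩ p.2
  rw [hx, gm, dif_pos h]
  exact ⟨fun x hx c => hb x (fun c e => hx ⟨c, e⟩) c, hs⟩

theorem word_spec : ∀ {w : List (ℕ × ZMod 3)}, (∀ p ∈ w, p.1 < 12) →
    Block (chevG2.wordMat (ZMod 3) w) ∧ (chevG2.wordMat (ZMod 3) w).submatrix sel sel = matC w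
  | [], _ => ⟨block_one, Matrix.submatrix_one _ sel_injective⟩
  | p :: w, hw => by
    obtain ⟨h1, h2⟩ := x_spec (hw p List.mem_cons_self)
    obtain ⟨h3, h4⟩ := word_spec (w := w) fun q hq => hw q (List.mem_cons_of_mem _ hq)
    rw [show chevG2.wordMat (ZMod 3) (p :: w) = chevG2.x (ZMod 3) p.1 p.2 * chevG2.wordMat (ZMod 3) w
      from List.prod_cons]
    exact ⟨h1.mul h3, by rw [submatrix_mul _ h3, h2, h4]; exact List.prod_cons.symm⟩

theorem matC_append (v w : List (ℕ × ZMod 3)) : matC (v ++ w) = matC v * matC w := by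
  rw [matC, matC, matC, List.map_append, List.prod_append]

theorem letters_act : ∀ (d : List (Fin 2)), ∃ σ ∈ RG, ∀ i,
    decode (vecC i) ᵥ* matC (letters d) = decode (vecC (σ i))
  | [] => ⟨1, one_mem _, fun i => by simp [letters, matC]⟩
  | g :: d => by
    obtain ⟨σ, hσ, h⟩ := letters_act d
    refine ⟨σ * gP g, mul_mem hσ (Subgroup.subset_closure ⟨g, rfl⟩), fun i => ?_⟩
    rw [show letters (g :: d) = genWord.getD g [] ++ letters d from List.flatMap_cons, matC_append,
      ← Matrix.vecMul_vecMul, ← decode_evC, gen_act, h]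
    rfl

/-- A matrix acts on the points by the given permutation. -/
def Acts (g : GL Idx (ZMod 3)) (σ : Equiv.Perm (Fin 56)) : Prop :=
  ∀ i, decode (vecC i) ᵥ* (g : Matrix Idx Idx (ZMod 3)).submatrix sel sel = decode (vecC (σ i))

theorem acts_mem {g : GL Idx (ZMod 3)} (hg : g ∈ twistedG2 (ZMod 3) 1) :
    Block (g : Matrix Idx Idx (ZMod 3)) ∧ ∃ σ ∈ RG, Acts g σ := by
  let S : Submonoid (GL Idx (ZMod 3)) :=
    { carrier := {g | Block (g : Matrix Idx Idx (ZMod 3)) ∧ ∃ σ ∈ RG, Acts g σ}
      one_mem' := ⟨by simpa using block_one, 1, one_mem _, fun i => by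
        simp [Matrix.submatrix_one _ sel_injective]⟩
      mul_mem' := fun {a b} ⟨ha, σ, hσ, hσa⟩ ⟨hb, τ, hτ, hτb⟩ => ⟨by simpa using ha.mul hb, τ * σ,
        mul_mem hτ hσ, fun i => by
          rw [Units.val_mul, submatrix_mul _ hb, ← Matrix.vecMul_vecMul, hσa, hτb]; rfl⟩ }
  have hclosure : g ∈ Submonoid.closure {g : GL Idx (ZMod 3) | ∃ w ∈ g2Words (ZMod 3) 1,
      (g : Matrix Idx Idx (ZMod 3)) = chevG2.wordMat (ZMod 3) w} := by
    rw [← Subgroup.closure_toSubmonoid_of_finite]; exact hg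
  suffices hle : _ ≤ S from hle hclosure
  refine Submonoid.closure_le.mpr ?_
  rintro x ⟨w, ⟨t, u, v, hw⟩, hx⟩
  have main : ∀ d, chkW w d = true → x ∈ S := fun d hd => by
    have hr : ∀ p ∈ w, p.1 < 12 := by
      simp only [chkW, Bool.and_eq_true, List.all_eq_true, decide_eq_true_eq] at hd
      exact hd.1
    obtain ⟨h1, h2⟩ := word_spec hr
    obtain ⟨σ, hσ, h⟩ := letters_act d
    exact ⟨hx ▸ h1, σ, hσ, fun i => by rw [hx, h2, matC_eq_of_chkW hd]; exact h i⟩
  rcases hw with rfl | rfl
  · exact main _ (chkU t u v)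
  · exact main _ (chkV t u v)

theorem eq_of_acts {g : GL Idx (ZMod 3)} {σ τ : Equiv.Perm (Fin 56)} (h : Acts g σ)
    (h' : Acts g τ) : σ = τ :=
  Equiv.ext fun i => decode_vecC_injective ((h i).symm.trans (h' i))

theorem genWord_mem (g : Fin 2) : genWord.getD g [] ∈ g2Words (ZMod 3) 1 := by
  have h : ∀ g : Fin 2, ∃ t u v : ZMod 3, genWord.getD g [] = reeWordU 1 t u v ∨
      genWord.getD g [] = reeWordV 1 t u v := by decide +kernel
  exact h g

/-- The action on the points. -/
theorem exists_hom : ∃ φ : ↥(twistedG2 (ZMod 3) 1) →* Equiv.Perm (Fin 56), φ.range = RG := by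
  choose hB σ hσR hσ using fun g : ↥(twistedG2 (ZMod 3) 1) => acts_mem g.2
  let φ : ↥(twistedG2 (ZMod 3) 1) →* Equiv.Perm (Fin 56) :=
    MonoidHom.mk' (fun g => (σ g)⁻¹) fun a b => by
      rw [← mul_inv_rev, inv_inj]
      refine eq_of_acts (hσ _) fun i => ?_
      rw [Subgroup.coe_mul, Units.val_mul, submatrix_mul _ (hB b), ← Matrix.vecMul_vecMul, hσ a, hσ b]
      rfl
  refine ⟨φ, le_antisymm ?_ ?_⟩
  · rintro _ ⟨g, rfl⟩; exact inv_mem (hσR g)
  · refine (Subgroup.closure_le _).mpr ?_
    rintro _ ⟨g, rfl⟩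
    haveI := CfsgLib.Chev.charThree_G2 (K := ZMod 3) (m := 0) (by simp)
    obtain ⟨x, hx, hxm⟩ : ∃ x ∈ twistedG2 (ZMod 3) 1,
        (x : Matrix Idx Idx (ZMod 3)) = chevG2.wordMat (ZMod 3) (genWord.getD g []) :=
      ⟨((genWord.getD g []).map fun p : ℕ × ZMod 3 => CfsgLib.Chev.X chevG2 p.1 p.2).prod,
        CfsgLib.Chev.certG2.prod_mem_genSubgroup (genWord_mem g),
        (CfsgLib.Chev.certG2.wordMat_eq_prod _).symm⟩
    refine ⟨⟨x, hx⟩⁻¹, ?_⟩
    rw [map_inv]
    show (σ ⟨x, hx⟩)⁻¹⁻¹ = gP g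
    rw [inv_inv]
    refine eq_of_acts (hσ _) fun i => ?_
    show decode (vecC i) ᵥ* (x : Matrix Idx Idx (ZMod 3)).submatrix sel sel = _
    rw [hxm, (word_spec (genWord_roots g)).2, ← decode_evC, gen_act]
    rfl

/-- A perfect group of order 504 is simple. -/
theorem isSimpleGroup_of_perfect {G : Type*} [Group G] [Finite G] (hG : commutator G = ⊤)
    (hc : Nat.card G = 504) : IsSimpleGroup G := by
  haveI : Nontrivial G := Finite.one_lt_card_iff_nontrivial.mp (by omega)
  obtain ⟨N, ⟨hN, hNt⟩, hmax⟩ := Set.Finite.exists_maximal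
    (Set.toFinite {N : Subgroup G | N.Normal ∧ N ≠ ⊤}) ⟨⊥, inferInstance, bot_ne_top⟩
  haveI := hN
  haveI : Nontrivial (G ⧸ N) := QuotientGroup.nontrivial_iff.mpr hNt
  haveI hQ : IsSimpleGroup (G ⧸ N) := ⟨fun M hM => by
    have hle : N ≤ M.comap (QuotientGroup.mk' N) := fun x hx => by
      rw [Subgroup.mem_comap, QuotientGroup.mk'_apply, (QuotientGroup.eq_one_iff x).mpr hx]
      exact one_mem M
    have hsurj := QuotientGroup.mk'_surjective N
    rcases eq_or_ne (M.comap (QuotientGroup.mk' N)) ⊤ with h | h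
    · exact Or.inr (Subgroup.comap_injective hsurj (h.trans (Subgroup.comap_top _).symm))
    · have heq := le_antisymm (hmax ⟨hM.comap _, h⟩ hle) hle
      exact Or.inl (Subgroup.comap_injective hsurj
        (heq.trans (by rw [MonoidHom.comap_bot, QuotientGroup.ker_mk'])))⟩
  have hnc : ¬ IsMulCommutative (G ⧸ N) := fun h => by
    refine hNt (top_le_iff.mp (hG ▸ ?_))
    refine Subgroup.commutator_le.mpr fun a _ b _ => (QuotientGroup.eq_one_iff _).mp ?_
    rw [← QuotientGroup.mk'_apply, map_commutatorElement, commutatorElement_eq_one_iff_mul_comm]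
    exact h.is_comm.comm _ _
  have hmul : Nat.card (G ⧸ N) * Nat.card N = 504 := by
    rw [← hc, Subgroup.card_eq_card_quotient_mul_card_subgroup N]
  have hpos : 0 < Nat.card N := Nat.card_pos
  rcases Cfsg.Agent.S0496.result hnc (by nlinarith) with h | h | h | h | h | h <;> rw [h] at hmul
  · omega
  · exfalso
    have h3 : Nat.card N = 3 := by omega
    haveI : Fact (Nat.Prime 3) := ⟨Nat.prime_three⟩
    haveI : IsCyclic N := isCyclic_of_prime_card h3
    haveI : CommGroup N := IsCyclic.commGroup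
    have hker : commutator G ≤ (MulAut.conjNormal (H := N)).ker := by
      refine Subgroup.commutator_le.mpr fun a _ b _ => ?_
      rw [MonoidHom.mem_ker, map_commutatorElement, commutatorElement_eq_one_iff_mul_comm]
      exact (IsCyclic.mulAutMulEquiv (h := ‹IsCyclic N›) N).injective (by
        rw [map_mul, map_mul, mul_comm])
    have hZ : N ≤ Subgroup.center G := fun n hn => Subgroup.mem_center_iff.mpr fun g => by
      have h1 : MulAut.conjNormal (H := N) g = 1 := hker (hG ▸ Subgroup.mem_top g)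
      have h2 := congrArg Subtype.val (MulEquiv.congr_fun h1 ⟨n, hn⟩)
      rw [MulAut.conjNormal_apply, MulAut.one_apply] at h2
      exact mul_inv_eq_iff_eq_mul.mp h2
    obtain ⟨P, hP⟩ := (IsPGroup.of_card (p := 3) (n := 1) (by rw [h3, pow_one])).exists_le_sylow
    have hPc : Nat.card (P : Subgroup G) = 3 ^ 2 := by
      rw [P.card_eq_multiplicity, hc]; decide +kernel
    have hcomm : IsMulCommutative (P : Subgroup G) :=
      IsPGroup.isMulCommutative_of_card_eq_prime_sq (p := 3) hPc
    have hbot := Cfsg.Agent.S0088.result (P : Subgroup G) hcomm P.card_coprime_index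
    rw [hG, inf_top_eq] at hbot
    have hNb : N = ⊥ := le_bot_iff.mp ((le_inf hP hZ).trans hbot.le)
    rw [hNb, Subgroup.card_bot] at h3
    omega
  · omega
  · obtain rfl : N = ⊥ := Subgroup.eq_bot_of_card_eq N (by omega)
    exact QuotientGroup.quotientBot.symm.isSimpleGroup
  · omega
  · omega

/-- The derived subgroup of `²G₂(3)` is simple of order 504. -/
theorem derived_simple :
    Nat.card ↥(commutator ↥(twistedG2 (ZMod 3) 1)) = 504 ∧
      IsSimpleGroup ↥(commutator ↥(twistedG2 (ZMod 3) 1)) := by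
  have hcard : Nat.card ↥(twistedG2 (ZMod 3) 1) = 1512 := by
    have := Cfsg.Agent.S1069.result (K := ZMod 3) (m := 0) (by simp)
    simpa using this
  obtain ⟨φ, hφ⟩ := exists_hom
  have hdvd : Nat.card RG ∣ 1512 := hcard ▸ hφ ▸ Subgroup.card_range_dvd φ
  have hd1 : Nat.card DG ∣ Nat.card RG := Subgroup.card_dvd_of_le DG_le_RG
  have hlt : Nat.card DG < Nat.card RG := by
    refine lt_of_le_of_ne (Nat.le_of_dvd Nat.card_pos hd1) fun h => gP_out_not_mem ?_
    rw [Subgroup.eq_of_le_of_card_ge DG_le_RG h.ge]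
    exact Subgroup.subset_closure ⟨_, rfl⟩
  have key : Nat.card RG = 1512 ∧ Nat.card DG = 504 := by
    obtain ⟨a, ha⟩ := dvd_card_DG
    obtain ⟨b, hb⟩ := hd1
    obtain ⟨c, hc⟩ := hdvd
    have hb2 : 2 ≤ b := by
      rcases b with _ | _ | b <;> simp_all
    have ha1 : 1 ≤ a := by have : 0 < Nat.card DG := Nat.card_pos; omega
    have hc1 : 1 ≤ c := by rcases c with _ | c <;> omega
    have h3 : a * b * c = 3 := by rw [hb, ha] at hc; linarith
    have : a = 1 ∧ b = 3 ∧ c = 1 := by
      have : a ≤ 1 := by nlinarith [Nat.mul_le_mul hb2 hc1]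
      have : c ≤ 1 := by nlinarith [Nat.mul_le_mul ha1 hb2]
      have ha' : a = 1 := by omega
      have hc' : c = 1 := by omega
      subst ha' hc'; omega
    obtain ⟨rfl, rfl, rfl⟩ := this
    omega
  have hinj : Function.Injective φ :=
    by
      have hb := Function.Surjective.bijective_of_nat_card_le φ.rangeRestrict_surjective
        (by rw [hcard, hφ, key.1])
      exact fun a b h => hb.injective (Subtype.ext h)
  have hmap : (commutator ↥(twistedG2 (ZMod 3) 1)).map φ = DG := by
    rw [commutator_def, Subgroup.map_commutator, ← MonoidHom.range_eq_map, hφ, commutator_RG]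
  have e := (commutator ↥(twistedG2 (ZMod 3) 1)).equivMapOfInjective φ hinj
  rw [hmap] at e
  have hperf : commutator DG = ⊤ := by
    refine Subgroup.map_injective DG.subtype_injective ?_
    rw [Subgroup.map_subtype_commutator, ← MonoidHom.range_eq_map, Subgroup.range_subtype]
    exact le_antisymm (Subgroup.commutator_le_self DG) DG_perfect
  haveI := isSimpleGroup_of_perfect hperf key.2
  exact ⟨by rw [Nat.card_congr e.toEquiv, key.2], e.isSimpleGroup⟩

end CfsgLib.ReeThree
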